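import Mathlib
import Cfsg.Agent.H184.PD.RowsA
import Cfsg.Agent.H184.PD.Large
import Cfsg.Agent.KFacts.SuzLarge
import Cfsg.Agent.H524.SporSC
import Cfsg.Agent.S2074

/-!
# S4246: the row `Suz` (helper219)
-/

set_option autoImplicit false
set_option linter.unusedSectionVars false

namespace Cfsg.Agent.H219.PD

open Subgroup Cfsg Cfsg.Agent.H160.PD Cfsg.Agent.H184.PD Cfsg.Agent.H524.SporTool
open Cfsg.Spor Cfsg.Agent.SuzThree.CentA Cfsg.Agent.KFacts.SuzSheet

universe u

theorem evT_suz {K : Type u} [Group K] [Finite K] (h : Spor.IsoSuz K) : EvT K := by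
  have hc := NotCT.Orders.suz h
  obtain ⟨e⟩ := h
  have : Finite Spor.Suz := Finite.of_equiv K e.toEquiv
  have hcS : Nat.card Spor.Suz = 448345497600 := by rw [← Nat.card_congr e.toEquiv, hc]
  refine EvT.congr e.symm (EvT.of_large KFacts.SuzLarge.large ?_)
  have h1 : C1 = centralizer ({z0} : Set Suz) := by
    ext x
    rw [mem_C1]
  refine not_dvd_index_of 3317760 135135 ?_ (by rw [hcS]) (by norm_num)
  rw [← h1, KFacts.SuzCent.card_C1]

theorem row_suz (K : Type u) [Group K] [Finite K] [IsSimpleGroup K] (h : Spor.IsoSuz K) : Row K := by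
  refine row_of_data (sc_suz h) ?_ (by rw [NotCT.Orders.suz h]; norm_num) (evT_suz h)
  obtain ⟨e⟩ := h
  rw [out_of e S2074.result]

end Cfsg.Agent.H219.PD
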