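import Mathlib
import Cfsg.Agent.H184.PD.RowsA
import Cfsg.Agent.H184.PD.Large
import Cfsg.Agent.H583.ImcNoCent
import Cfsg.Agent.H633.CentSporB
import Cfsg.Agent.H524.SporSC
import Cfsg.Agent.H524.SporSCB
import Cfsg.Agent.S2068
import Cfsg.Agent.S2069
import Cfsg.Agent.S2070
import Cfsg.Agent.S2071
import Cfsg.Agent.S2077

/-!
# S4246: the rows `Co₁`, `Co₂`, `Co₃`, `Ru`, `J₄` (helper219)

`|Out| = 1`, a self-centralizing element of prime order, and the centralizer of a Sylow `2`-subgroup is a `2`-group.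
-/

set_option autoImplicit false
set_option linter.unusedSectionVars false

namespace Cfsg.Agent.H219.PD

open Subgroup Cfsg Cfsg.Agent.H160.PD Cfsg.Agent.H184.PD Cfsg.Agent.H524.SporTool

universe u

/-- the centralizers of the elements of odd prime order have not the full `2`-part -/
theorem lt_of_ct {K : Type u} [Group K] [Finite K] (h : H633.CentTwo.CT K) {g : K} (hg : (orderOf g).Prime)
    (hg2 : orderOf g ≠ 2) : v 2 (centralizer ({g} : Set K)) < v 2 K := by
  by_contra hcon
  push Not at hcon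
  have h1 := H583.ImcNoCent.noCent_of_CT h g (fun h2 => hg2 ((Nat.prime_dvd_prime_iff_eq Nat.prime_two hg).1 h2).symm)
    hcon
  rw [h1, orderOf_one] at hg
  exact Nat.not_prime_one hg

theorem row_of_ct {K : Type u} [Group K] [Finite K] [IsSimpleGroup K] (hsc : SC K) (ho : out K = 1)
    (h4 : 4 ∣ Nat.card K) (h : H633.CentTwo.CT K) : Row K := by
  refine row_of_sc' (center_bot' h4) hsc (by omega) h4 fun g hg hg2 => ?_
  rw [ho, Nat.factorization_one, Finsupp.zero_apply, add_zero]
  exact lt_of_ct h hg hg2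

theorem row_co1 (K : Type u) [Group K] [Finite K] [IsSimpleGroup K] (h : Spor.IsoCo1 K) : Row K := by
  refine row_of_ct (sc_co1 h) ?_ (by rw [NotCT.Orders.co1 h]; norm_num) (H633.CentTwo.co1 h)
  obtain ⟨e⟩ := h
  exact out_of e S2069.result

theorem row_co2 (K : Type u) [Group K] [Finite K] [IsSimpleGroup K] (h : Spor.IsoCo2 K) : Row K := by
  refine row_of_ct (sc_co2 h) ?_ (by rw [NotCT.Orders.co2 h]; norm_num) (H633.CentTwo.co2 h)
  obtain ⟨e⟩ := h
  exact out_of e S2070.result

theorem row_co3 (K : Type u) [Group K] [Finite K] [IsSimpleGroup K] (h : Spor.IsoCo3 K) : Row K := by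
  refine row_of_ct (sc_co3 h) ?_ (by rw [NotCT.Orders.co3 h]; norm_num) (H633.CentTwo.co3 h)
  obtain ⟨e⟩ := h
  exact out_of e S2071.result

theorem row_ru (K : Type u) [Group K] [Finite K] [IsSimpleGroup K] (h : Spor.IsoRu K) : Row K := by
  refine row_of_ct (sc_ru h) ?_ (by rw [NotCT.Orders.ru h]; norm_num) (H633.CentTwo.ru h)
  obtain ⟨e⟩ := h
  exact out_of e S2077.result

theorem row_j4 (K : Type u) [Group K] [Finite K] [IsSimpleGroup K] (h : Spor.IsoJ4 K) : Row K := by
  refine row_of_ct (sc_j4 h) ?_ (by rw [NotCT.Orders.j4 h]; norm_num) (H633.CentTwo.j4 h)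
  obtain ⟨e⟩ := h
  exact out_of e S2068.result

end Cfsg.Agent.H219.PD
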